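import Cfsg.Agent.H145.SLx2.Weights
import Cfsg.Agent.ClassicalGeometry.AutPSL.Root

/-!
# Representations of `SL_N(2)` in odd characteristic

`bound` : a representation of `SL_N(2)`, `N ≥ 5`, in characteristic `≠ 2` on which transvections act non-trivially
has dimension at least `3 * 2 ^ (N - 2) - 2`.
-/

set_option autoImplicit false
set_option linter.unusedSectionVars false
set_option linter.dupNamespace false

namespace Cfsg.Agent.H145.SLx2

open Module Matrix Cfsg.Agent.H912.Bd Cfsg.Agent.ClassicalGeometry.AutPSL.Root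

variable {ι K : Type*} [Fintype ι] [DecidableEq ι] [Field K] [Fintype K]

/-- `u ↦ a ⬝ᵥ u` -/
def dotL (a : ι → K) : (ι → K) →ₗ[K] K where
  toFun u := a ⬝ᵥ u
  map_add' u v := dotProduct_add a u v
  map_smul' c u := by rw [dotProduct_smul, RingHom.id_apply]

theorem dotL_apply (a u : ι → K) : dotL a u = a ⬝ᵥ u := rfl

/-- `a ^ ⊥` -/
abbrev X (a : ι → K) : Submodule K (ι → K) := LinearMap.ker (dotL a)

theorem mem_X {a u : ι → K} : u ∈ X a ↔ a ⬝ᵥ u = 0 := by
  rw [X, LinearMap.mem_ker, dotL_apply]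

theorem mem_X' {a u : ι → K} : u ∈ X a ↔ u ⬝ᵥ a = 0 := by
  rw [mem_X, dotProduct_comm]

theorem tr_zero_left (a : ι → K) (h : a ⬝ᵥ 0 = 0) : tr 0 a h = 1 := by
  apply sl_ext
  intro x
  rw [tr_mulVec]
  simp

theorem tr_zero_right (a : ι → K) (h : (0 : ι → K) ⬝ᵥ a = 0) : tr a 0 h = 1 := by
  apply sl_ext
  intro x
  rw [tr_mulVec]
  simp

/-- the transvections with axis `a` -/
def EA (a : ι → K) : Multiplicative (X a) →* SpecialLinearGroup ι K where
  toFun u := tr (Multiplicative.toAdd u : X a) a (mem_X.1 (Multiplicative.toAdd u).2)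
  map_one' := tr_zero_left a _
  map_mul' u v := by rw [tr_mul_same_axis]; rfl

/-- the transvections with centre `a` -/
def EB (a : ι → K) : Multiplicative (X a) →* SpecialLinearGroup ι K where
  toFun u := tr a (Multiplicative.toAdd u : X a) (mem_X'.1 (Multiplicative.toAdd u).2)
  map_one' := tr_zero_right a _
  map_mul' u v := by rw [tr_mul_same_center]; rfl

theorem EA_apply (a : ι → K) (u : X a) : EA a (Multiplicative.ofAdd u) = tr (u : ι → K) a (mem_X.1 u.2) := rfl

theorem EB_apply (a : ι → K) (u : X a) : EB a (Multiplicative.ofAdd u) = tr a (u : ι → K) (mem_X'.1 u.2) := rfl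

/-- Functionals on a subspace are given by vectors. -/
theorem exists_vec {Y : Submodule K (ι → K)} (φ : Dual K Y) : ∃ w : ι → K, ∀ y : Y, φ y = w ⬝ᵥ (y : ι → K) := by
  obtain ⟨Φ, hΦ⟩ := LinearMap.exists_extend φ
  refine ⟨fun i => Φ (fun j => if i = j then 1 else 0), fun y => ?_⟩
  have h1 : φ y = Φ (y : ι → K) := by rw [← hΦ]; rfl
  rw [h1, LinearMap.pi_apply_eq_sum_univ Φ]
  refine Finset.sum_congr rfl fun i _ => ?_
  rw [smul_eq_mul, mul_comm]

theorem smul_add_smul_self (hK : Fintype.card K = 2) (c : K) (u : ι → K) : c • u + c • u = 0 := by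
  rw [← add_smul, add_self hK, zero_smul]

/-- `tr u w` on the transvections with axis `a`. -/
theorem conj_EA (hK : Fintype.card K = 2) {a : ι → K} (u : X a) {w : ι → K} (hw : w ⬝ᵥ (u : ι → K) = 0) (y : X a) :
    (tr (u : ι → K) w hw)⁻¹ * EA a (Multiplicative.ofAdd y) * tr (u : ι → K) w hw =
      EA a (Multiplicative.ofAdd (y + (w ⬝ᵥ (y : ι → K)) • u)) := by
  have hu : a ⬝ᵥ (u : ι → K) = 0 := mem_X.1 u.2
  have hy : a ⬝ᵥ (y : ι → K) = 0 := mem_X.1 y.2
  have key : EA a (Multiplicative.ofAdd y) * tr (u : ι → K) w hw =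
      tr (u : ι → K) w hw * EA a (Multiplicative.ofAdd (y + (w ⬝ᵥ (y : ι → K)) • u)) := by
    apply sl_ext
    intro x
    rw [EA_apply, EA_apply, sl_mul_mulVec, sl_mul_mulVec, tr_mulVec, tr_mulVec, tr_mulVec, tr_mulVec]
    simp only [Submodule.coe_add, Submodule.coe_smul, dotProduct_add, dotProduct_smul, hu, hw, smul_eq_mul,
      mul_zero, add_zero, smul_add, smul_smul, add_smul]
    have h1 := smul_add_smul_self hK (a ⬝ᵥ x * w ⬝ᵥ (y : ι → K)) (u : ι → K)
    calc x + (w ⬝ᵥ x) • (u : ι → K) + (a ⬝ᵥ x) • (y : ι → K)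
        = x + (w ⬝ᵥ x) • (u : ι → K) + (a ⬝ᵥ x) • (y : ι → K) + 0 := by rw [add_zero]
      _ = _ := by
        rw [← h1]
        abel
  rw [mul_assoc, key]
  group

/-- `tr w u` on the transvections with centre `a`. -/
theorem conj_EB {a : ι → K} (u : X a) {w : ι → K} (hw : (u : ι → K) ⬝ᵥ w = 0) (y : X a) :
    (tr w (u : ι → K) hw)⁻¹ * EB a (Multiplicative.ofAdd y) * tr w (u : ι → K) hw =
      EB a (Multiplicative.ofAdd (y + (w ⬝ᵥ (y : ι → K)) • u)) := by
  have hu : (u : ι → K) ⬝ᵥ a = 0 := mem_X'.1 u.2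
  have hy : (y : ι → K) ⬝ᵥ a = 0 := mem_X'.1 y.2
  have key : EB a (Multiplicative.ofAdd y) * tr w (u : ι → K) hw =
      tr w (u : ι → K) hw * EB a (Multiplicative.ofAdd (y + (w ⬝ᵥ (y : ι → K)) • u)) := by
    apply sl_ext
    intro x
    rw [EB_apply, EB_apply, sl_mul_mulVec, sl_mul_mulVec, tr_mulVec, tr_mulVec, tr_mulVec, tr_mulVec]
    simp only [Submodule.coe_add, Submodule.coe_smul, dotProduct_add, dotProduct_smul, add_dotProduct, smul_dotProduct,
      hu, smul_eq_mul, mul_zero, add_zero, add_smul]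
    rw [dotProduct_comm (y : ι → K) w, mul_comm (w ⬝ᵥ (y : ι → K))]
    abel
  rw [mul_assoc, key]
  group

theorem hasTr_EA (hK : Fintype.card K = 2) (a : ι → K) : HasTr K (EA a) := by
  intro u φ hφ
  obtain ⟨w, hw⟩ := exists_vec φ
  refine ⟨tr (u : ι → K) w (by rw [← hw, hφ]), fun y => ?_⟩
  rw [conj_EA hK, hw]

theorem hasTr_EB (a : ι → K) : HasTr K (EB a) := by
  intro u φ hφ
  obtain ⟨w, hw⟩ := exists_vec φ
  refine ⟨tr w (u : ι → K) (by rw [dotProduct_comm, ← hw, hφ]), fun y => ?_⟩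
  rw [conj_EB, hw]

theorem comm_tr {p u φ ψ : ι → K} (h1 : ψ ⬝ᵥ p = 0) (h2 : ψ ⬝ᵥ u = 0) (h3 : φ ⬝ᵥ u = 1) (h4 : φ ⬝ᵥ p = 0) :
    tr p φ h4 * tr u ψ h2 = tr p ψ h1 * (tr u ψ h2 * tr p φ h4) := by
  apply sl_ext
  intro x
  rw [sl_mul_mulVec, sl_mul_mulVec, sl_mul_mulVec, tr_mulVec, tr_mulVec, tr_mulVec, tr_mulVec, tr_mulVec]
  simp only [dotProduct_add, dotProduct_smul, h1, h2, h3, smul_eq_mul, mul_zero, mul_one, add_zero, add_smul]
  abel

theorem finrank_X {a : ι → K} (ha : a ≠ 0) : finrank K (X a) = Fintype.card ι - 1 := by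
  have h1 := LinearMap.finrank_range_add_finrank_ker (dotL a)
  have h2 : LinearMap.range (dotL a) = ⊤ := by
    rw [LinearMap.range_eq_top]
    obtain ⟨i, hi⟩ := Function.ne_iff.1 ha
    intro c
    refine ⟨Pi.single i ((a i)⁻¹ * c), ?_⟩
    rw [dotL_apply, dotProduct_single, ← mul_assoc, mul_inv_cancel₀ hi, one_mul]
  rw [h2, finrank_top, finrank_self, finrank_pi] at h1
  change 1 + finrank K (X a) = _ at h1
  omega

/-- A vector killed by three functionals outside a line. -/
theorem exists_common (hι : 5 ≤ Fintype.card ι) (a b c p : ι → K) : ∃ u : ι → K, a ⬝ᵥ u = 0 ∧ b ⬝ᵥ u = 0 ∧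
    c ⬝ᵥ u = 0 ∧ u ∉ Submodule.span K {p} := by
  let L : (ι → K) →ₗ[K] (Fin 3 → K) := LinearMap.pi ![dotL a, dotL b, dotL c]
  have h1 := LinearMap.finrank_range_add_finrank_ker L
  have h2 : finrank K (LinearMap.range L) ≤ 3 := by
    have := Submodule.finrank_le (LinearMap.range L)
    rwa [finrank_fin_fun] at this
  rw [finrank_pi] at h1
  have h3 : finrank K (Submodule.span K {p}) ≤ 1 := by
    have := finrank_span_le_card (R := K) ({p} : Set (ι → K))
    simpa using this
  obtain ⟨u, hu, hup⟩ : ∃ u ∈ LinearMap.ker L, u ∉ Submodule.span K {p} := by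
    by_contra hcon
    push Not at hcon
    have h4 : finrank K (LinearMap.ker L) ≤ finrank K (Submodule.span K {p}) := Submodule.finrank_mono hcon
    omega
  rw [LinearMap.mem_ker] at hu
  refine ⟨u, congrFun hu 0, congrFun hu 1, congrFun hu 2, hup⟩

theorem exists_functional (hK : Fintype.card K = 2) {p u : ι → K} (hu : u ∉ Submodule.span K {p}) :
    ∃ φ : ι → K, φ ⬝ᵥ u = 1 ∧ φ ⬝ᵥ p = 0 := by
  obtain ⟨f, hf, hfp⟩ := Submodule.exists_dual_map_eq_bot_of_notMem hu inferInstance
  have h1 : f p = 0 := by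
    have : f p ∈ (Submodule.span K {p}).map f := ⟨p, Submodule.mem_span_singleton_self p, rfl⟩
    rw [hfp] at this
    simpa using this
  refine ⟨fun i => f (fun j => if i = j then 1 else 0), ?_, ?_⟩
  · have h2 := LinearMap.pi_apply_eq_sum_univ f u
    have h3 := (eq_zero_or_one hK (f u)).resolve_left hf
    refine Eq.trans ?_ h3
    rw [h2]
    refine Finset.sum_congr rfl fun i _ => ?_
    rw [smul_eq_mul, mul_comm]
  · have h2 := LinearMap.pi_apply_eq_sum_univ f p
    refine Eq.trans ?_ h1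
    rw [h2]
    refine Finset.sum_congr rfl fun i _ => ?_
    rw [smul_eq_mul, mul_comm]

section rep

variable {k : Type*} [Field k] {V : Type*} [AddCommGroup V] [Module k V] [FiniteDimensional k V]
  {ρ : SpecialLinearGroup ι K →* Module.End k V}

/-- If the weight space of `f` has dimension one, then the transvections with centre `p` act trivially. -/
theorem fixed_of_one (hK : Fintype.card K = 2) (hι : 5 ≤ Fintype.card ι) {a : ι → K} (p : X a)
    {f : Dual K (X a)} (hfp : f p = 0) (h1 : finrank k (W ρ (EA a) f) = 1) :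
    W ρ (EA a) f ≤ W ρ (EB (p : ι → K)) (0 : Dual K (X (p : ι → K))) := by
  intro v hv
  rw [mem_W]
  intro ψ
  rw [LinearMap.zero_apply, sg_zero, one_smul, EB_apply]
  by_cases hv0 : v = 0
  · rw [hv0, map_zero]
  have hψ : (ψ : ι → K) ⬝ᵥ (p : ι → K) = 0 := mem_X'.1 ψ.2
  obtain ⟨w, hw⟩ := exists_vec f
  obtain ⟨u, hua, huw, huψ, hup⟩ := exists_common hι a w (ψ : ι → K) (p : ι → K)
  obtain ⟨φ, hφu, hφp⟩ := exists_functional hK hup
  -- transvections with centre in `ker f` preserve the weight space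
  have hpres : ∀ (u' : X a) (χ : ι → K) (h : χ ⬝ᵥ (u' : ι → K) = 0), f u' = 0 → ∃ c : k, c ≠ 0 ∧
      ρ (tr (u' : ι → K) χ h) v = c • v := by
    intro u' χ h hfu
    have h2 : ρ (tr (u' : ι → K) χ h) v ∈ W ρ (EA a) f := by
      refine map_W (f := f) (fun y => ⟨_, conj_EA hK u' h y, ?_⟩) hv
      rw [map_add, map_smul, hfu, smul_zero, add_zero]
    obtain ⟨c, hc⟩ := exists_smul_eq_of_finrank_eq_one h1 (x := ⟨v, hv⟩) (by
      intro h0
      exact hv0 (congrArg Subtype.val h0)) ⟨_, h2⟩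
    have hc' : c • v = ρ (tr (u' : ι → K) χ h) v := congrArg Subtype.val hc
    refine ⟨c, ?_, hc'.symm⟩
    rintro rfl
    rw [zero_smul] at hc'
    apply hv0
    apply rho_injective ρ (tr (u' : ι → K) χ h)
    rw [← hc', map_zero]
  obtain ⟨c, hc0, hc⟩ := hpres ⟨u, mem_X.2 hua⟩ (ψ : ι → K) huψ (by rw [hw]; exact huw)
  obtain ⟨d, hd0, hd⟩ := hpres p φ hφp hfp
  have h2 : ρ (tr (p : ι → K) φ hφp * tr u (ψ : ι → K) huψ) v = (d * c) • v := by
    rw [map_mul, Module.End.mul_apply]
    change ρ (tr (p : ι → K) φ hφp) (ρ (tr u (ψ : ι → K) huψ) v) = _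
    rw [show ρ (tr u (ψ : ι → K) huψ) v = c • v from hc, map_smul, hd, smul_smul, mul_comm]
  rw [comm_tr hψ huψ hφu hφp, map_mul, Module.End.mul_apply] at h2
  have h3 : ρ (tr u (ψ : ι → K) huψ * tr (p : ι → K) φ hφp) v = (d * c) • v := by
    rw [map_mul, Module.End.mul_apply, hd, map_smul,
      show ρ (tr u (ψ : ι → K) huψ) v = c • v from hc, smul_smul]
  rw [h3, map_smul] at h2
  exact smul_right_injective V (mul_ne_zero hd0 hc0) h2

open Classical in
/-- **The bound.** -/
theorem bound [IsAlgClosed k] (hK : Fintype.card K = 2) (h2 : (2 : k) ≠ 0) (hι : 5 ≤ Fintype.card ι)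
    (hρ : Function.Injective ρ) : 3 * 2 ^ (Fintype.card ι - 2) - 2 ≤ finrank k V := by
  classical
  obtain ⟨i0, i1, hi⟩ : ∃ i0 i1 : ι, i0 ≠ i1 := Fintype.exists_pair_of_one_lt_card (by omega)
  set a : ι → K := Pi.single i0 1 with ha
  set p : ι → K := Pi.single i1 1 with hp
  have ha0 : a ≠ 0 := by simp [ha]
  have hp0 : p ≠ 0 := by simp [hp]
  have hap : a ⬝ᵥ p = 0 := by
    rw [ha, hp, dotProduct_single, Pi.single_eq_of_ne hi.symm, zero_mul]
  let P : X a := ⟨p, mem_X.2 hap⟩
  have hP0 : P ≠ 0 := fun h => hp0 (congrArg Subtype.val h)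
  have hcK : Nat.card K = 2 := by rw [Nat.card_eq_fintype_card, hK]
  have hdA := finrank_X (K := K) ha0
  have hdB := finrank_X (K := K) hp0
  set N := Fintype.card ι with hN
  have hfA : Finite (Dual K (X a)) := Module.finite_of_finite K
  have hfB : Finite (Dual K (X p)) := Module.finite_of_finite K
  let _ : Fintype (Dual K (X a)) := Fintype.ofFinite _
  let _ : Fintype (Dual K (X p)) := Fintype.ofFinite _
  have hcA : Fintype.card (Dual K (X a)) = 2 ^ (N - 1) := by
    rw [← Nat.card_eq_fintype_card, Module.natCard_eq_pow_finrank (K := K), hcK, Subspace.dual_finrank_eq, hdA]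
  have hcB : Fintype.card (Dual K (X p)) = 2 ^ (N - 1) := by
    rw [← Nat.card_eq_fintype_card, Module.natCard_eq_pow_finrank (K := K), hcK, Subspace.dual_finrank_eq, hdB]
  have hneA : ρ (EA a (Multiplicative.ofAdd P)) ≠ 1 := by
    intro h
    rw [← map_one ρ] at h
    have h1 := hρ h
    rw [EA_apply] at h1
    have h3 : ((tr (P : ι → K) a (mem_X.1 P.2) : SpecialLinearGroup ι K) : Matrix ι ι K) *ᵥ (Pi.single i0 1) =
        Pi.single i0 1 := by
      have h4 : ((tr (P : ι → K) a (mem_X.1 P.2) : SpecialLinearGroup ι K) : Matrix ι ι K) = 1 :=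
        congrArg Subtype.val h1
      rw [h4, one_mulVec]
    rw [tr_mulVec, dotProduct_single] at h3
    have h4 : (P : ι → K) = 0 := by
      have h5 : (a i0 * 1) • (P : ι → K) = 0 := by
        rwa [add_eq_left] at h3
      have h6 : a i0 = 1 := by rw [ha, Pi.single_eq_same]
      rwa [h6, one_mul, one_smul] at h5
    exact hp0 h4
  have hneB : ρ (EB p (Multiplicative.ofAdd (⟨a, mem_X'.2 hap⟩ : X p))) ≠ 1 := by
    intro h
    apply hneA
    rw [EB_apply] at h
    rw [EA_apply]
    exact h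
  have hp2 : 2 ^ (N - 1) = 2 * 2 ^ (N - 2) := by
    rw [← pow_succ']
    congr 1
    omega
  have hp3 : 1 ≤ 2 ^ (N - 2) := Nat.one_le_two_pow
  -- a non-zero functional vanishing at `P`
  let D : Submodule K (Dual K (X a)) := LinearMap.ker (Module.Dual.eval K (X a) P)
  have hD : ∀ f : Dual K (X a), f ∈ D ↔ f P = 0 := fun f => by
    rw [LinearMap.mem_ker, Module.Dual.eval_apply]
  have hdD : N - 2 ≤ finrank K D := by
    have h1 := LinearMap.finrank_range_add_finrank_ker (Module.Dual.eval K (X a) P)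
    have h3 := Submodule.finrank_le (LinearMap.range (Module.Dual.eval K (X a) P))
    rw [finrank_self] at h3
    rw [Subspace.dual_finrank_eq, hdA] at h1
    change _ + finrank K D = _ at h1
    omega
  let S : Finset (Dual K (X a)) := Finset.univ.filter (fun f => f ≠ 0 ∧ f P = 0)
  have hS : ∀ f, f ∈ S ↔ f ≠ 0 ∧ f P = 0 := fun f => by simp [S]
  have hScard : 2 ^ (N - 2) ≤ S.card + 1 := by
    have h1 : Nat.card D ≤ S.card + 1 := by
      have h3 : (D : Set (Dual K (X a))) ⊆ (insert 0 S : Finset (Dual K (X a))) := by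
        intro f hf
        by_cases hf0 : f = 0
        · simp [hf0]
        · exact Finset.mem_coe.2 (Finset.mem_insert_of_mem ((hS f).2 ⟨hf0, (hD f).1 hf⟩))
      have h4 := Set.ncard_le_ncard h3 (Finset.finite_toSet _)
      rw [Set.ncard_coe_finset] at h4
      exact (show Nat.card D = (D : Set (Dual K (X a))).ncard from rfl) ▸ (h4.trans (Finset.card_insert_le _ _))
    refine le_trans ?_ h1
    rw [Module.natCard_eq_pow_finrank (K := K) (V := D), hcK]
    exact Nat.pow_le_pow_right (by norm_num) hdD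
  have hSne : S.Nonempty := by
    rw [← Finset.card_pos]
    have : 2 ^ 3 ≤ 2 ^ (N - 2) := Nat.pow_le_pow_right (by norm_num) (by omega)
    omega
  obtain ⟨f₀, hf₀⟩ := hSne
  have hf₀' := (hS f₀).1 hf₀
  have heq : ∀ f : Dual K (X a), f ≠ 0 → finrank k (W ρ (EA a) f) = finrank k (W ρ (EA a) f₀) := fun f hf =>
    finrank_W_eq hK (hasTr_EA hK a) hf hf₀'.1
  have hge : 1 ≤ finrank k (W ρ (EA a) f₀) := one_le_finrank_W hK h2 (hasTr_EA hK a) hneA hf₀'.1
  rcases Nat.lt_or_ge (finrank k (W ρ (EA a) f₀)) 2 with h1 | h1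
  · -- multiplicity one
    have he1 : finrank k (W ρ (EA a) f₀) = 1 := by omega
    have hsub : (⨆ f ∈ S, W ρ (EA a) f : Submodule k V) ≤ W ρ (EB p) (0 : Dual K (X p)) := by
      apply iSup₂_le
      intro f hf
      obtain ⟨hf0, hfP⟩ := (hS f).1 hf
      exact fixed_of_one hK hι P hfP (by rw [heq f hf0, he1])
    have h3 : S.card ≤ finrank k (W ρ (EB p) (0 : Dual K (X p))) := by
      refine le_trans ?_ (Submodule.finrank_mono hsub)
      refine le_trans ?_ (sum_W_le hK h2 ρ (EA a) S)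
      rw [Finset.sum_congr rfl (fun f hf => (heq f ((hS f).1 hf).1).trans he1), Finset.sum_const, smul_eq_mul, mul_one]
    have h4 := sum_finrank_le (indep_W hK h2 ρ (EB p))
    rw [← Finset.add_sum_erase _ _ (Finset.mem_univ (0 : Dual K (X p)))] at h4
    have h5 : (Finset.univ.erase (0 : Dual K (X p))).card ≤
        ∑ f ∈ Finset.univ.erase (0 : Dual K (X p)), finrank k (W ρ (EB p) f) := by
      rw [Finset.card_eq_sum_ones]
      apply Finset.sum_le_sum
      intro f hf
      exact one_le_finrank_W hK h2 (hasTr_EB p) hneB (Finset.ne_of_mem_erase hf)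
    rw [Finset.card_erase_of_mem (Finset.mem_univ _), Finset.card_univ, hcB] at h5
    omega
  · have h4 := sum_finrank_le (indep_W hK h2 ρ (EA a))
    rw [← Finset.add_sum_erase _ _ (Finset.mem_univ (0 : Dual K (X a)))] at h4
    have h5 : (Finset.univ.erase (0 : Dual K (X a))).card * 2 ≤
        ∑ f ∈ Finset.univ.erase (0 : Dual K (X a)), finrank k (W ρ (EA a) f) := by
      rw [← smul_eq_mul, ← Finset.sum_const]
      apply Finset.sum_le_sum
      intro f hf
      rw [heq f (Finset.ne_of_mem_erase hf)]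
      exact h1
    rw [Finset.card_erase_of_mem (Finset.mem_univ _), Finset.card_univ, hcA] at h5
    omega

end rep

end Cfsg.Agent.H145.SLx2
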