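import Cfsg.Agent.H100.Ppd.Basic
import Cfsg.Agent.H145.SLx2.Bound
import Cfsg.Agent.H264.CoverOver
import Cfsg.Agent.S0242
import Cfsg.Agent.S0265
import Cfsg.Agent.S0813
import Cfsg.Agent.S2086

/-!
# TEAM PPD: `PSL_N(2)` in odd characteristic

`row_psl_two`: no row `P` with `Soc P ≅ PSL_N(2)`, `N ≥ 3`, over a field of characteristic `≠ 2`.
-/

set_option autoImplicit false
set_option linter.unusedSectionVars false

namespace Cfsg.Agent.H145.SLx2

open Cfsg Cfsg.Geo Matrix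
open Cfsg.Agent.H915.LD Cfsg.Agent.H100.Ppd

universe u v

variable {K : Type v} [Field K] [Fintype K]

theorem card_aut (hK : Fintype.card K = 2) {N : ℕ} (hN : 3 ≤ N) :
    Nat.card (MulAut (Matrix.ProjectiveSpecialLinearGroup (Fin N) K)) = 2 * ∏ i : Fin N, (2 ^ N - 2 ^ (i : ℕ)) := by
  have : Fact (Nat.Prime 2) := ⟨Nat.prime_two⟩
  have h1 := S0242.result hK N (by omega)
  rw [S0813.result 2 1 le_rfl (by rw [hK, pow_one]) N (by omega) (fun h => by omega), S0265.result N, if_neg (by omega)]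
  rw [← h1]
  norm_num

/-- A prime dividing `|Aut PSL_N(2)|` -/
theorem prime_dvd {N r : ℕ} (hr : r.Prime) (h7 : 7 ≤ r) (h : r ∣ 2 * ∏ i : Fin N, (2 ^ N - 2 ^ (i : ℕ))) :
    ∃ j, 1 ≤ j ∧ j ≤ N ∧ r ∣ 2 ^ j - 1 := by
  have h2 : ¬ r ∣ 2 := fun h => by
    have := Nat.le_of_dvd (by norm_num) h
    omega
  have h3 := (hr.dvd_mul.1 h).resolve_left h2
  obtain ⟨i, -, hi⟩ := (Prime.dvd_finsetProd_iff hr.prime _).1 h3
  have h4 : 2 ^ N - 2 ^ (i : ℕ) = 2 ^ (i : ℕ) * (2 ^ (N - i) - 1) := by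
    rw [Nat.mul_sub, mul_one, ← pow_add]
    congr 2
    omega
  rw [h4] at hi
  exact ⟨N - i, by omega, by omega, (hr.dvd_mul.1 hi).resolve_left fun h => h2 (hr.dvd_of_dvd_pow h)⟩

theorem cases_prime {N n k r : ℕ} (hN : 5 ≤ N) (hb : 3 * 2 ^ (N - 2) - 2 ≤ n) (hnk : n < 2 * k) (hr : r.Prime)
    (h7 : 7 ≤ r) (hk : k ∣ r - 1) (h : r ∣ 2 * ∏ i : Fin N, (2 ^ N - 2 ^ (i : ℕ))) :
    (r = 2 ^ (N - 1) - 1 ∨ r = 2 ^ N - 1) ∧ r ≤ 2 * k + 1 := by
  obtain ⟨j, hj1, hjN, hj⟩ := prime_dvd hr h7 h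
  have hM : 8 ≤ 2 ^ (N - 2) := by
    calc 8 = 2 ^ 3 := by norm_num
      _ ≤ 2 ^ (N - 2) := Nat.pow_le_pow_right (by norm_num) (by omega)
  have hM1 : 2 ^ (N - 1) = 2 * 2 ^ (N - 2) := by
    rw [← pow_succ']
    congr 1
    omega
  have hM2 : 2 ^ N = 4 * 2 ^ (N - 2) := by
    have : 2 ^ N = 2 * 2 ^ (N - 1) := by
      rw [← pow_succ']
      congr 1
      omega
    rw [this, hM1]
    ring
  have hMe : ∃ l, 2 ^ (N - 2) = 2 * l := ⟨2 ^ (N - 3), by
    rw [← pow_succ']
    congr 1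
    omega⟩
  obtain ⟨l, hl⟩ := hMe
  set M := 2 ^ (N - 2) with hMdef
  have hk3 : 3 * l ≤ k := by omega
  obtain ⟨t, ht⟩ := hk
  have hrk : k + 1 ≤ r := by
    have : t ≠ 0 := by
      rintro rfl
      omega
    have := Nat.le_mul_of_pos_right k (Nat.pos_of_ne_zero this)
    omega
  have hmain : r = 2 ^ (N - 1) - 1 ∨ r = 2 ^ N - 1 := by
    rcases Nat.lt_or_ge j (N - 1) with h1 | h1
    · exfalso
      have h2 : 2 ^ j ≤ M := Nat.pow_le_pow_right (by norm_num) (by omega)
      have h3 : 0 < 2 ^ j - 1 := by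
        have : 2 ^ 1 ≤ 2 ^ j := Nat.pow_le_pow_right (by norm_num) hj1
        omega
      have h4 := Nat.le_of_dvd h3 hj
      omega
    · have h2 : j = N - 1 ∨ j = N := by omega
      rcases h2 with rfl | rfl
      · left
        obtain ⟨c, hc⟩ := hj
        have hc1 : c = 1 := by
          by_contra hne
          have h3 : c ≠ 0 := by
            rintro rfl
            omega
          have h4 : 2 ≤ c := by omega
          have h5 : r * 2 ≤ r * c := Nat.mul_le_mul_left r h4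
          omega
        rw [hc, hc1, mul_one]
      · right
        obtain ⟨c, hc⟩ := hj
        have hc1 : c = 1 := by
          by_contra hne
          have h3 : c ≠ 0 := by
            rintro rfl
            omega
          have h4 : c ≠ 2 := by
            rintro rfl
            omega
          have h5 : r * 3 ≤ r * c := Nat.mul_le_mul_left r (by omega)
          omega
        rw [hc, hc1, mul_one]
  refine ⟨hmain, ?_⟩
  rcases hmain with h1 | h1
  · omega
  · have h2 : t ≤ 2 := by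
      by_contra hcon
      have h3 : k * 3 ≤ k * t := Nat.mul_le_mul_left k (by omega)
      omega
    have h4 : k * t ≤ k * 2 := Nat.mul_le_mul_left k h2
    omega

theorem unique_prime {N r s : ℕ} (hN : 5 ≤ N) (hr : r.Prime) (hs : s.Prime)
    (h1 : r = 2 ^ (N - 1) - 1 ∨ r = 2 ^ N - 1) (h2 : s = 2 ^ (N - 1) - 1 ∨ s = 2 ^ N - 1) : s = r := by
  have hM : 16 ≤ 2 ^ (N - 1) := by
    calc 16 = 2 ^ 4 := by norm_num
      _ ≤ 2 ^ (N - 1) := Nat.pow_le_pow_right (by norm_num) (by omega)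
  have hM2 : 2 ^ N = 2 * 2 ^ (N - 1) := by
    rw [← pow_succ']
    congr 1
    omega
  have key : ¬ ((2 ^ (N - 1) - 1).Prime ∧ (2 ^ N - 1).Prime) := by
    rintro ⟨ha, hb⟩
    have h3 : 2 ^ (N - 1) % 3 = 1 ∨ 2 ^ (N - 1) % 3 = 2 := by
      have h4 : ¬ 3 ∣ 2 ^ (N - 1) := fun h => by
        have := Nat.prime_three.dvd_of_dvd_pow h
        omega
      omega
    rcases h3 with h3 | h3
    · have h4 : 3 ∣ 2 ^ (N - 1) - 1 := by omega
      have h5 := (Nat.prime_dvd_prime_iff_eq Nat.prime_three ha).1 h4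
      omega
    · have h4 : 3 ∣ 2 ^ N - 1 := by omega
      have h5 := (Nat.prime_dvd_prime_iff_eq Nat.prime_three hb).1 h4
      omega
  rcases h1 with h1 | h1 <;> rcases h2 with h2 | h2
  · rw [h1, h2]
  · exact absurd ⟨h1 ▸ hr, h2 ▸ hs⟩ key
  · exact absurd ⟨h2 ▸ hs, h1 ▸ hr⟩ key
  · rw [h1, h2]

theorem not_sq_dvd {N r : ℕ} (hN : 5 ≤ N) (hr : r.Prime) (h1 : r = 2 ^ (N - 1) - 1 ∨ r = 2 ^ N - 1) :
    ¬ r ^ 2 ∣ 2 * ∏ i : Fin N, (2 ^ N - 2 ^ (i : ℕ)) := by
  classical
  have hM : 16 ≤ 2 ^ (N - 1) := by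
    calc 16 = 2 ^ 4 := by norm_num
      _ ≤ 2 ^ (N - 1) := Nat.pow_le_pow_right (by norm_num) (by omega)
  have hM2 : 2 ^ N = 2 * 2 ^ (N - 1) := by
    rw [← pow_succ']
    congr 1
    omega
  have hM1 : 2 ^ (N - 1) = 2 * 2 ^ (N - 2) := by
    rw [← pow_succ']
    congr 1
    omega
  have hr2 : r.Coprime 2 := by
    rw [Nat.coprime_comm, Nat.Prime.coprime_iff_not_dvd Nat.prime_two]
    omega
  obtain ⟨a, ha, ha1, har⟩ : ∃ a, a ≤ N ∧ N - 1 ≤ a ∧ r = 2 ^ a - 1 := by
    rcases h1 with h | h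
    · exact ⟨N - 1, by omega, le_rfl, h⟩
    · exact ⟨N, le_rfl, by omega, h⟩
  have hfac : ∀ i : Fin N, 2 ^ N - 2 ^ (i : ℕ) = 2 ^ (i : ℕ) * (2 ^ (N - i) - 1) := by
    intro i
    rw [Nat.mul_sub, mul_one, ← pow_add]
    congr 2
    omega
  let i0 : Fin N := ⟨N - a, by omega⟩
  have hothers : ∀ i : Fin N, i ≠ i0 → r.Coprime (2 ^ N - 2 ^ (i : ℕ)) := by
    intro i hi
    rw [hfac, Nat.Prime.coprime_iff_not_dvd hr]
    intro h
    rcases hr.dvd_mul.1 h with h | h
    · have h3 := hr.dvd_of_dvd_pow h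
      have := Nat.le_of_dvd (by norm_num) h3
      omega
    · have h3 : N - (i : ℕ) ≠ a := by
        intro h4
        apply hi
        apply Fin.ext
        change (i : ℕ) = N - a
        omega
      have h5 : 0 < 2 ^ (N - (i : ℕ)) - 1 := by
        have : 2 ^ 1 ≤ 2 ^ (N - (i : ℕ)) := Nat.pow_le_pow_right (by norm_num) (by omega)
        omega
      have h6 := Nat.le_of_dvd h5 h
      rcases Nat.lt_or_ge (N - (i : ℕ)) a with h7 | h7
      · have h8 : 2 ^ (N - (i : ℕ)) ≤ 2 ^ (a - 1) := Nat.pow_le_pow_right (by norm_num) (by omega)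
        have h9 : 2 ^ a = 2 * 2 ^ (a - 1) := by
          rw [← pow_succ']
          congr 1
          omega
        omega
      · have h8 : N - (i : ℕ) = N := by omega
        have h9 : a = N - 1 := by omega
        rw [h8] at h
        rw [h9] at har
        have h10 : r ∣ 1 := by
          have h11 : 2 ^ N - 1 = 2 * r + 1 := by omega
          rw [h11] at h
          exact (Nat.dvd_add_right (Dvd.intro_left 2 rfl)).1 h
        exact hr.one_lt.ne' (Nat.dvd_one.1 h10)
  intro h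
  rw [← Finset.mul_prod_erase _ _ (Finset.mem_univ i0)] at h
  have h2 : (r ^ 2).Coprime (∏ i ∈ Finset.univ.erase i0, (2 ^ N - 2 ^ (i : ℕ))) := by
    apply Nat.Coprime.prod_right
    intro i hi
    exact (hothers i (Finset.ne_of_mem_erase hi)).pow_left 2
  have h3 : r ^ 2 ∣ 2 * (2 ^ N - 2 ^ (i0 : ℕ)) := by
    rw [← mul_assoc] at h
    exact h2.dvd_of_dvd_mul_right h
  have h4 := (hr2.pow_left 2).dvd_of_dvd_mul_left h3
  rw [hfac] at h4
  have h5 := (((hr2.pow_right (i0 : ℕ))).pow_left 2).dvd_of_dvd_mul_left h4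
  have h6 : N - (i0 : ℕ) = a := by
    change N - (N - a) = a
    omega
  rw [h6, ← har] at h5
  have h7 := Nat.le_of_dvd hr.pos h5
  have h8 := hr.two_le
  nlinarith

section main

variable {n : ℕ} {F : Type u} [Field F] [Finite F] {k m : ℕ} {P : Subgroup (GL (Fin n) F)}

/-- `SL_N(2)` embeds into `P`, `N ≥ 5`. -/
theorem exists_hom (hP : ⁅P, P⁆ = P) {N : ℕ} (hN : 5 ≤ N) (hK : Fintype.card K = 2)
    (e : Soc P ≃* Matrix.ProjectiveSpecialLinearGroup (Fin N) K) :
    ∃ j : Matrix.SpecialLinearGroup (Fin N) K →* P, Function.Injective j := by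
  have hmult := S2086.result hK N (by omega) (fun h => by omega) (by
    simp only [Set.mem_insert_iff, Set.mem_singleton_iff, Prod.mk.injEq]
    omega)
  have hcomm : commutator P = ⊤ := by
    apply Subgroup.map_injective P.subtype_injective
    rw [_root_.commutator_def, Subgroup.map_commutator, ← MonoidHom.range_eq_map, Subgroup.range_subtype, hP]
  have hker : (e.toMonoidHom.comp (toSoc P)).ker = (Cfsg.Geo.scalars (Fin n) F).subgroupOf P := by
    ext x
    rw [MonoidHom.mem_ker, MonoidHom.comp_apply]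
    change e _ = 1 ↔ _
    rw [map_eq_one_iff _ e.injective, ← MonoidHom.mem_ker, ker_toSoc]
  have h1 := H264.CoverOver.card_ker_dvd hmult hcomm (e.toMonoidHom.comp (toSoc P))
    (e.surjective.comp (toSoc_surjective P)) (by
      rw [hker]
      exact scalars_le_center)
  have h2 : Nat.card (Multiplicative (ZMod (Nat.gcd N (2 - 1)))) = 1 := by
    rw [Nat.card_congr (Multiplicative.toAdd), Nat.card_zmod]
    simp
  rw [h2, Nat.dvd_one, Subgroup.card_eq_one] at h1
  have hbij : Function.Bijective (e.toMonoidHom.comp (toSoc P)) :=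
    ⟨(MonoidHom.ker_eq_bot_iff _).1 h1, e.surjective.comp (toSoc_surjective P)⟩
  let e' : P ≃* Matrix.ProjectiveSpecialLinearGroup (Fin N) K := MulEquiv.ofBijective _ hbij
  refine ⟨e'.symm.toMonoidHom.comp (QuotientGroup.mk' _), ?_⟩
  apply e'.symm.injective.comp
  rw [← MonoidHom.ker_eq_bot_iff, QuotientGroup.ker_mk', eq_bot_iff]
  intro x hx
  rw [Matrix.SpecialLinearGroup.mem_center_iff] at hx
  obtain ⟨c, hc1, hc2⟩ := hx
  rw [Subgroup.mem_bot]
  apply Subtype.ext
  rw [← hc2]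
  rcases eq_zero_or_one hK c with rfl | rfl
  · rw [Fintype.card_fin, zero_pow (by omega)] at hc1
    exact absurd hc1 zero_ne_one
  · simp

/-- **The row `PSL_N(2)` in odd characteristic.** -/
theorem row_psl_two (h : Row k m P) (h2 : (2 : F) ≠ 0) {N : ℕ} (hN : 3 ≤ N) (hK : Fintype.card K = 2)
    (e : Soc P ≃* Matrix.ProjectiveSpecialLinearGroup (Fin N) K) : False := by
  have hA := card_aut hK hN
  have hk := h.num.six_le
  rcases Nat.lt_or_ge N 5 with h5 | h5
  · have h34 : N = 3 ∨ N = 4 := by omega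
    rcases h34 with rfl | rfl
    · have h6 : 2 * ∏ i : Fin 3, (2 ^ 3 - 2 ^ (i : ℕ)) = 2 ^ 4 * 3 * 7 := by
        simp [Fin.prod_univ_succ]
      rw [h6] at hA
      refine h.kill e (dvd_of_eq hA) (r₀ := 7) (by omega) ?_ (by norm_num)
      intro r hr hrd hk1 hk2
      rcases hr.dvd_mul.1 hrd with h7 | h7
      · exfalso
        rcases hr.dvd_mul.1 h7 with h8 | h8
        · have := Nat.le_of_dvd (by norm_num) (hr.dvd_of_dvd_pow h8)
          omega
        · have := Nat.le_of_dvd (by norm_num) h8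
          omega
      · exact (Nat.prime_dvd_prime_iff_eq hr (by norm_num)).1 h7
    · have h6 : 2 * ∏ i : Fin 4, (2 ^ 4 - 2 ^ (i : ℕ)) = 2 ^ 7 * 3 ^ 2 * 5 * 7 := by
        simp [Fin.prod_univ_succ]
      rw [h6] at hA
      refine h.kill e (dvd_of_eq hA) (r₀ := 7) (by omega) ?_ (by norm_num)
      intro r hr hrd hk1 hk2
      rcases hr.dvd_mul.1 hrd with h7 | h7
      · exfalso
        rcases hr.dvd_mul.1 h7 with h8 | h8
        · rcases hr.dvd_mul.1 h8 with h9 | h9
          · have := Nat.le_of_dvd (by norm_num) (hr.dvd_of_dvd_pow h9)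
            omega
          · have := Nat.le_of_dvd (by norm_num) (hr.dvd_of_dvd_pow h9)
            omega
        · have := Nat.le_of_dvd (by norm_num) h8
          omega
      · exact (Nat.prime_dvd_prime_iff_eq hr (by norm_num)).1 h7
  · obtain ⟨j, hj⟩ := exists_hom h.core.perfect h5 hK e
    have hrho : Function.Injective ((H912.Bd.repK P.subtype).comp j) := by
      rw [← MonoidHom.ker_eq_bot_iff, eq_bot_iff]
      intro x hx
      rw [MonoidHom.mem_ker, MonoidHom.comp_apply] at hx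
      have h6 := H912.Bd.eq_one_of_repK hx
      have h7 : j x = 1 := Subtype.ext h6
      rw [Subgroup.mem_bot]
      exact hj (by rw [h7, map_one])
    have hb := bound (ρ := (H912.Bd.repK P.subtype).comp j) hK (by
      intro h0
      apply h2
      apply (algebraMap F (AlgebraicClosure F)).injective
      rw [map_ofNat, map_zero, h0]) (by rw [Fintype.card_fin]; exact h5) hrho
    rw [Module.finrank_fintype_fun_eq_card, Fintype.card_fin, Fintype.card_fin] at hb
    have hm := h.dvd_card e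
    rw [hA] at hm
    have hc : ∀ r : ℕ, r.Prime → r ∣ m → (r = 2 ^ (N - 1) - 1 ∨ r = 2 ^ N - 1) ∧ r ≤ 2 * k + 1 := fun r hr hrm =>
      cases_prime h5 hb h.num.nlt hr (h.num.seven_le hr hrm) (h.num.dvd_sub_one hr hrm) (hrm.trans hm)
    obtain ⟨r, hr, hrm⟩ := h.num.exists_prime
    obtain ⟨h6, h7⟩ := hc r hr hrm
    exact h.num.kill h7 (fun s hs hsm => unique_prime h5 hr hs h6 (hc s hs hsm).1)
      (fun h8 => not_sq_dvd h5 hr h6 (h8.trans hm))

end main

end Cfsg.Agent.H145.SLx2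

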