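import Mathlib
import Cfsg.Agent.H912.Bd1

/-!
# Weights of elementary abelian 2-groups in odd characteristic

`K` the field with two elements, `X` a finite `K`-space, `E : X → G` a homomorphism, `ρ` a representation of `G`
over an algebraically closed field of characteristic different from 2. `W ρ E f` is the weight space of
`f : Dual K X`.

* `indep_W`, `exists_W` : independence and existence of the weight spaces;
* `finrank_W_eq` : if the normaliser contains all transvections, the non-trivial weight spaces have the same dimension.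
-/

set_option autoImplicit false
set_option linter.unusedSectionVars false
set_option linter.dupNamespace false

namespace Cfsg.Agent.H145.SLx2

open Module Cfsg.Agent.H912.Bd

section field

variable {K : Type*} [Field K] [Fintype K]

theorem eq_zero_or_one (hK : Fintype.card K = 2) (a : K) : a = 0 ∨ a = 1 := by
  classical
  by_contra hcon
  push Not at hcon
  have h1 : ({0, 1, a} : Finset K).card = 3 := by
    rw [Finset.card_eq_three]
    exact ⟨0, 1, a, zero_ne_one, Ne.symm hcon.1, Ne.symm hcon.2, rfl⟩
  have h2 := Finset.card_le_univ ({0, 1, a} : Finset K)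
  rw [h1, hK] at h2
  omega

theorem add_self (hK : Fintype.card K = 2) (a : K) : a + a = 0 := by
  have : Fact (Nat.Prime 2) := ⟨Nat.prime_two⟩
  have : CharP K 2 := charP_of_card_eq_prime hK
  exact CharTwo.add_self_eq_zero a

theorem one_add_one (hK : Fintype.card K = 2) : (1 : K) + 1 = 0 := add_self hK 1

open Classical in
/-- the sign character of the field with two elements -/
noncomputable def sg (k : Type*) [Field k] (a : K) : k := if a = 0 then 1 else -1

theorem sg_zero (k : Type*) [Field k] : sg k (0 : K) = 1 := by simp [sg]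

theorem sg_one (k : Type*) [Field k] : sg k (1 : K) = -1 := by simp [sg]

theorem sg_add (hK : Fintype.card K = 2) (k : Type*) [Field k] (a b : K) : sg k (a + b) = sg k a * sg k b := by
  rcases eq_zero_or_one hK a with rfl | rfl <;> rcases eq_zero_or_one hK b with rfl | rfl
  · simp [sg_zero]
  · simp [sg_zero]
  · simp [sg_zero]
  · rw [one_add_one hK, sg_zero, sg_one]; ring

theorem sg_inj (hK : Fintype.card K = 2) {k : Type*} [Field k] (h2 : (2 : k) ≠ 0) {a b : K} (h : sg k a = sg k b) :
    a = b := by
  have h1 : (1 : k) ≠ -1 := by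
    intro h
    apply h2
    have : (1 : k) + 1 = 0 := by nth_rw 1 [h]; ring
    rw [← this]; ring
  rcases eq_zero_or_one hK a with rfl | rfl <;> rcases eq_zero_or_one hK b with rfl | rfl
  · rfl
  · rw [sg_zero, sg_one] at h; exact absurd h h1
  · rw [sg_zero, sg_one] at h; exact absurd h.symm h1
  · rfl

end field

section weights

variable {K : Type*} [Field K] [Fintype K] {k : Type*} [Field k] {V : Type*} [AddCommGroup V] [Module k V]
  {G : Type*} [Group G] {X : Type*} [AddCommGroup X] [Module K X]

/-- The weight space of `f`. -/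
noncomputable def W (ρ : G →* Module.End k V) (E : Multiplicative X →* G) (f : Dual K X) : Submodule k V :=
  ⨅ x : X, (ρ (E (Multiplicative.ofAdd x))).eigenspace (sg k (f x))

theorem mem_W {ρ : G →* Module.End k V} {E : Multiplicative X →* G} {f : Dual K X} {v : V} :
    v ∈ W ρ E f ↔ ∀ x, ρ (E (Multiplicative.ofAdd x)) v = sg k (f x) • v := by
  simp [W, Submodule.mem_iInf]

theorem W_eq_wt (ρ : G →* Module.End k V) (E : Multiplicative X →* G) (f : Dual K X) :
    W ρ E f = wt (ρ.comp E) ⊤ (fun a => sg k (f (Multiplicative.toAdd (a : Multiplicative X)))) := by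
  ext v
  rw [mem_W, mem_wt]
  constructor
  · intro h a
    exact h (Multiplicative.toAdd (a : Multiplicative X))
  · intro h x
    exact h ⟨Multiplicative.ofAdd x, trivial⟩

variable [FiniteDimensional k V]

theorem pow_two_X (hK : Fintype.card K = 2) (a : Multiplicative X) : a ^ 2 = 1 := by
  have h1 : Multiplicative.toAdd a + Multiplicative.toAdd a = 0 := by
    have h2 : ((1 : K) + 1) • Multiplicative.toAdd a = 0 := by rw [one_add_one hK, zero_smul]
    rwa [add_smul, one_smul] at h2
  rw [pow_two]
  exact h1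

theorem indep_W (hK : Fintype.card K = 2) (h2 : (2 : k) ≠ 0) (ρ : G →* Module.End k V) (E : Multiplicative X →* G) :
    iSupIndep (fun f : Dual K X => W ρ E f) := by
  have h1 := indep_wt (ρ.comp E) (A := ⊤) (fun a _ b _ => mul_comm a b) (N := 2) (by exact_mod_cast h2)
    (fun a _ => pow_two_X hK a)
  have h3 := h1.comp (f := fun f : Dual K X => fun a : (⊤ : Subgroup (Multiplicative X)) =>
    sg k (f (Multiplicative.toAdd (a : Multiplicative X)))) (by
      intro f g hfg
      ext x
      exact sg_inj hK h2 (congrFun hfg ⟨Multiplicative.ofAdd x, trivial⟩))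
  have h4 : (wt (ρ.comp E) ⊤ ∘ fun f : Dual K X => fun a : (⊤ : Subgroup (Multiplicative X)) =>
    sg k (f (Multiplicative.toAdd (a : Multiplicative X)))) = fun f : Dual K X => W ρ E f := by
    funext f
    exact (W_eq_wt ρ E f).symm
  rwa [h4] at h3

/-- An element acting non-trivially has a weight. -/
theorem exists_W [IsAlgClosed k] (hK : Fintype.card K = 2) (h2 : (2 : k) ≠ 0) (ρ : G →* Module.End k V)
    (E : Multiplicative X →* G) {x₀ : X} (hx₀ : ρ (E (Multiplicative.ofAdd x₀)) ≠ 1) :
    ∃ f : Dual K X, f x₀ ≠ 0 ∧ W ρ E f ≠ ⊥ := by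
  classical
  obtain ⟨χ, hχ, hχc⟩ := exists_wt (ρ.comp E) (A := ⊤) (fun a _ b _ => mul_comm a b) (N := 2)
    (by exact_mod_cast h2) (fun a _ => pow_two_X hK a) (c := ⟨Multiplicative.ofAdd x₀, trivial⟩) hx₀
  have hmul := wt_mul (ρ.comp E) hχ
  have hone := wt_one (ρ.comp E) hχ
  have hsq : ∀ a, χ a = 1 ∨ χ a = -1 := by
    intro a
    have h3 : a * a = 1 := Subtype.ext (by
      have := pow_two_X hK (a : Multiplicative X)
      rwa [pow_two] at this)
    have h4 := hmul a a
    rw [h3, hone] at h4
    exact mul_self_eq_one_iff.1 h4.symm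
  have hne : (-1 : k) ≠ 1 := by
    intro h
    apply h2
    have h3 : (1 : k) + 1 = 0 := by nth_rw 1 [← h]; ring
    rw [← h3]; ring
  let g : X → K := fun x => if χ ⟨Multiplicative.ofAdd x, trivial⟩ = 1 then 0 else 1
  have hg : ∀ x, sg k (g x) = χ ⟨Multiplicative.ofAdd x, trivial⟩ := by
    intro x
    rcases hsq ⟨Multiplicative.ofAdd x, trivial⟩ with h | h
    · simp only [g, h, if_true, sg_zero]
    · simp only [g, h, if_neg hne, sg_one]
  let f : Dual K X :=
    { toFun := g
      map_add' := by
        intro x y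
        apply sg_inj hK h2
        rw [sg_add hK, hg, hg, hg, ← hmul]
        rfl
      map_smul' := by
        intro c x
        rcases eq_zero_or_one hK c with rfl | rfl
        · rw [zero_smul, RingHom.id_apply, zero_smul]
          apply sg_inj hK h2
          rw [hg, sg_zero]
          exact hone
        · rw [one_smul, RingHom.id_apply, one_smul] }
  refine ⟨f, ?_, ?_⟩
  · intro h
    apply hχc
    have h3 := hg x₀
    have h4 : g x₀ = 0 := h
    rw [h4, sg_zero] at h3
    exact h3.symm
  · rw [W_eq_wt]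
    have h3 : (fun a : (⊤ : Subgroup (Multiplicative X)) => sg k (f (Multiplicative.toAdd (a : Multiplicative X)))) =
        χ := by
      funext a
      exact hg (Multiplicative.toAdd (a : Multiplicative X))
    rw [h3]
    exact hχ

/-- Translates of weight spaces. -/
theorem map_W {ρ : G →* Module.End k V} {E : Multiplicative X →* G} {f f' : Dual K X} {g : G}
    (hg : ∀ y : X, ∃ z : X, g⁻¹ * E (Multiplicative.ofAdd y) * g = E (Multiplicative.ofAdd z) ∧ f z = f' y)
    {v : V} (hv : v ∈ W ρ E f) : ρ g v ∈ W ρ E f' := by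
  rw [mem_W] at hv ⊢
  intro y
  obtain ⟨z, h1, h2⟩ := hg y
  have h3 : E (Multiplicative.ofAdd y) * g = g * E (Multiplicative.ofAdd z) := by rw [← h1]; group
  rw [← Module.End.mul_apply, ← map_mul, h3, map_mul, Module.End.mul_apply, hv z, map_smul, h2]

theorem finrank_W_le {ρ : G →* Module.End k V} {E : Multiplicative X →* G} {f f' : Dual K X} {g : G}
    (hg : ∀ y : X, ∃ z : X, g⁻¹ * E (Multiplicative.ofAdd y) * g = E (Multiplicative.ofAdd z) ∧ f z = f' y) :
    finrank k (W ρ E f) ≤ finrank k (W ρ E f') := by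
  have h1 : (W ρ E f).map (ρ g) ≤ W ρ E f' := by
    rintro _ ⟨v, hv, rfl⟩
    exact map_W hg hv
  refine le_trans (le_of_eq ?_) (Submodule.finrank_mono h1)
  exact (Submodule.equivMapOfInjective (ρ g) (rho_injective ρ g) _).finrank_eq

/-- The normaliser contains all the transvections. -/
def HasTr (K : Type*) [Field K] {G : Type*} [Group G] {X : Type*} [AddCommGroup X] [Module K X]
    (E : Multiplicative X →* G) : Prop :=
  ∀ (u : X) (φ : Dual K X), φ u = 0 → ∃ g : G, ∀ y : X,
    g⁻¹ * E (Multiplicative.ofAdd y) * g = E (Multiplicative.ofAdd (y + φ y • u))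

theorem exists_both (hK : Fintype.card K = 2) {f f' : Dual K X} (hf : f ≠ 0) (hf' : f' ≠ 0) :
    ∃ u, f u = 1 ∧ f' u = 1 := by
  obtain ⟨x, hx⟩ : ∃ x, f x ≠ 0 := by
    by_contra hcon
    push Not at hcon
    exact hf (LinearMap.ext hcon)
  obtain ⟨y, hy⟩ : ∃ y, f' y ≠ 0 := by
    by_contra hcon
    push Not at hcon
    exact hf' (LinearMap.ext hcon)
  have hx1 := (eq_zero_or_one hK (f x)).resolve_left hx
  have hy1 := (eq_zero_or_one hK (f' y)).resolve_left hy
  rcases eq_zero_or_one hK (f' x) with h1 | h1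
  · rcases eq_zero_or_one hK (f y) with h3 | h3
    · exact ⟨x + y, by rw [map_add, hx1, h3, add_zero], by rw [map_add, hy1, h1, zero_add]⟩
    · exact ⟨y, h3, hy1⟩
  · exact ⟨x, hx1, h1⟩

theorem finrank_W_eq (hK : Fintype.card K = 2) {ρ : G →* Module.End k V} {E : Multiplicative X →* G}
    (hE : HasTr K E) {f f' : Dual K X} (hf : f ≠ 0) (hf' : f' ≠ 0) : finrank k (W ρ E f) = finrank k (W ρ E f') := by
  obtain ⟨u, hu, hu'⟩ := exists_both hK hf hf'
  obtain ⟨g, hg⟩ := hE u (f + f') (by rw [LinearMap.add_apply, hu, hu', one_add_one hK])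
  apply le_antisymm
  · refine finrank_W_le (g := g) fun y => ⟨_, hg y, ?_⟩
    rw [map_add, map_smul, hu, LinearMap.add_apply, smul_eq_mul, mul_one, ← add_assoc, add_self hK, zero_add]
  · refine finrank_W_le (g := g) fun y => ⟨_, hg y, ?_⟩
    rw [map_add, map_smul, hu', LinearMap.add_apply, smul_eq_mul, mul_one, add_comm (f y), ← add_assoc,
      add_self hK, zero_add]

theorem one_le_finrank_W [IsAlgClosed k] (hK : Fintype.card K = 2) (h2 : (2 : k) ≠ 0) {ρ : G →* Module.End k V}
    {E : Multiplicative X →* G} (hE : HasTr K E) {x₀ : X} (hx₀ : ρ (E (Multiplicative.ofAdd x₀)) ≠ 1)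
    {f : Dual K X} (hf : f ≠ 0) : 1 ≤ finrank k (W ρ E f) := by
  obtain ⟨f', hf', h3⟩ := exists_W hK h2 ρ E hx₀
  have hf'0 : f' ≠ 0 := by
    rintro rfl
    exact hf' (by simp)
  rw [finrank_W_eq hK hE hf hf'0]
  have : Nontrivial (W ρ E f') := Submodule.nontrivial_iff_ne_bot.2 h3
  exact finrank_pos

/-- Sums over sets of weights. -/
theorem sum_W_le (hK : Fintype.card K = 2) (h2 : (2 : k) ≠ 0) (ρ : G →* Module.End k V)
    (E : Multiplicative X →* G) (S : Finset (Dual K X)) :
    ∑ f ∈ S, finrank k (W ρ E f) ≤ finrank k (⨆ f ∈ S, W ρ E f : Submodule k V) := by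
  classical
  have h1 : iSupIndep (fun f : S => W ρ E (f : Dual K X)) := (indep_W hK h2 ρ E).comp Subtype.val_injective
  have h3 := h1.dfinsupp_lsum_injective
  have h4 := LinearMap.finrank_range_of_inj h3
  have h5 : finrank k (Π₀ f : S, W ρ E (f : Dual K X)) = ∑ f : S, finrank k (W ρ E (f : Dual K X)) :=
    Module.finrank_directSum k (fun f : S => ↥(W ρ E (f : Dual K X)))
  have h6 : ∑ f : S, finrank k (W ρ E (f : Dual K X)) = ∑ f ∈ S, finrank k (W ρ E f) :=
    Finset.sum_coe_sort S (fun f => finrank k (W ρ E f))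
  rw [← h6, ← h5, ← h4]
  apply Submodule.finrank_mono
  rw [← Submodule.iSup_eq_range_dfinsupp_lsum]
  apply iSup_le
  intro f
  exact le_iSup₂_of_le (f : Dual K X) f.2 le_rfl

end weights

end Cfsg.Agent.H145.SLx2
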